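import Cfsg.Agent.Lib.G24J2.Main
import Cfsg.Agent.Lib.G24Sch.P2
import Cfsg.Agent.Lib.G24Sch.P3
import Cfsg.Agent.Lib.G24Sch.P5
import Cfsg.Agent.Lib.Schur.Local

/-!
# Kernels of stem extensions of `G₂(4)` have order dividing 2
-/

set_option autoImplicit false
set_option maxRecDepth 100000
set_option maxHeartbeats 0

namespace Cfsg.Agent.Lib.G24Sch

open Cfsg Subgroup Cfsg.Agent.Lib.G24J2 Cfsg.Agent.Lib.PermComp.Core
open Cfsg.Agent.Lib.Schur.Stem Cfsg.Agent.Lib.Schur.Local
open Cfsg.Agent.Lib.Schur.PcMain Cfsg.Agent.Lib.Schur.PcPerm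

local notation "RR" => Rep 9 511 (Equiv.refl (Fin 416))

theorem hm5 : (511 : ℕ) = 2 ^ 9 - 1 := by norm_num

/-- The identity. -/
def c_idc : ℕ := nat_lit 0xcfe7b3b9ccde6b3398cbe5b2b94c9e4b2390c7e3b1b8cc5e2b1388c3e1b0b84c1e0b0380bfdfafb7cbddeaf378bbddaeb74b9dcae370b7dbadb6cb5daad368b3d9acb64b1d8ac360afd7abb5cadd6ab358abd5aab54a9d4aa350a7d3a9b4ca5d2a9348a3d1a8b44a1d0a83409fcfa7b3c9dcea73389bcda6b3499cca633097cba5b2c95caa532893c9a4b2491c8a43208fc7a3b1c8dc6a33188bc5a2b1489c4a231087c3a1b0c85c2a130883c1a0b0481c0a03007fbf9fafc7dbe9f2f87bbd9eaf479bc9e2f077bb9daec75ba9d2e873b99cae471b89c2e06fb79badc6db69b2d86bb59aad469b49a2d067b399acc65b2992c863b198ac461b0982c05faf97abc5dae972b85bad96ab459ac962b057ab95aac55aa952a853a994aa451a8942a04fa793a9c4da6932984ba592a9449a49229047a391a8c45a29128843a190a8441a0902803f9f8fa7c3d9e8f2783b9d8ea74399c8e270379b8da6c359a8d26833998ca6431988c2602f978ba5c2d968b2582b958aa5429948a250279389a4c259289248239188a442190882401f8f87a3c1d8e872381b8d86a34198c86230178b85a2c158a85228138984a241188842200f8783a1c0d86832180b8582a14098482210078381a0c058281208038180a04018080200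

theorem chk_id : allL (fun i => Nat.beq (app 9 511 c_idc i) i) (List.range 416) = true := by
  decide +kernel

theorem hid5 : ∀ i < 416, app 9 511 c_idc i = i := fun i hi =>
  Nat.eq_of_beq_eq_true ((allL_eq_true _ _).1 chk_id i (List.mem_range.2 hi))

/-- The code of a word in the letters. -/
noncomputable def wc : List ℕ → ℕ
  | [] => c_idc
  | a :: u => force (wc u) fun q => comp 416 9 511 (nthN T6 a) q

variable {P : Subgroup (Equiv.Perm (Fin 416))}

theorem wc_rep (hP : Model P) (u : List ℕ) (hu : u.all (fun a => Nat.blt a 6) = true) :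
    ∃ g ∈ P, RR (wc u) g := by
  induction u with
  | nil => exact ⟨1, one_mem _, rep_one hid5⟩
  | cons a u ih =>
    simp only [List.all_cons, Bool.and_eq_true] at hu
    obtain ⟨g, hg, hr⟩ := ih hu.2
    have ha : a < 6 := Nat.le_of_ble_eq_true hu.1
    refine ⟨Lt a * g, mul_mem (hP.mem a ha) hg, ?_⟩
    have : wc (a :: u) = comp 416 9 511 (nthN T6 a) (wc u) := by
      show force _ _ = _
      rw [force_eq]
    rw [this]
    exact (Lt_rep ha).comp hm5 hr

theorem rep_of_words (hP : Model P) {l : List ℕ} {W : List (List ℕ)} (h : l = W.map wc)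
    (hW : W.all (fun u => u.all (fun a => Nat.blt a 6)) = true) : ∀ c ∈ l, ∃ g ∈ P, RR c g := by
  subst h
  intro c hc
  obtain ⟨u, hu, rfl⟩ := List.mem_map.1 hc
  exact wc_rep hP u (List.all_eq_true.1 hW u hu)

theorem mem2a : P2.codes = P2.codesW.map wc := by decide +kernel
theorem mem2b : P2.conj = P2.conjW.map wc := by decide +kernel
theorem mem3a : P3.codes = P3.codesW.map wc := by decide +kernel
theorem mem3b : P3.conj = P3.conjW.map wc := by decide +kernel
theorem mem5a : P5.codes = P5.codesW.map wc := by decide +kernel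
theorem mem5b : P5.conj = P5.conjW.map wc := by decide +kernel

theorem chk2 : chkP 416 9 511 c_idc P2.C P2.codes P2.conj P2.base P2.ord = true := by decide +kernel
theorem chk3 : chkP 416 9 511 c_idc P3.C P3.codes P3.conj P3.base P3.ord = true := by decide +kernel
theorem chk5 : chkP 416 9 511 c_idc P5.C P5.codes P5.conj P5.base P5.ord = true := by decide +kernel

theorem p2a : P2.C.chkTable = true := by decide +kernel
theorem p2b : P2.C.chkDefs = true := by decide +kernel
theorem p2c : P2.C.chkOvs = true := by decide +kernel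
theorem p2d : P2.C.chkFrs = true := by decide +kernel
theorem p2e : P2.C.chkTargets = true := by decide +kernel

theorem check2 : P2.C.check = true := by
  simp only [Cert.check, Bool.and_eq_true]
  exact ⟨⟨⟨⟨p2a, p2b⟩, p2c⟩, p2d⟩, p2e⟩

theorem not_sq_dvd {p : ℕ} (hp : p.Prime) (h2 : p ≠ 2) (h3 : p ≠ 3) (h5 : p ≠ 5) : ¬ p ^ 2 ∣ 251596800 := by
  intro h
  have hc : Nat.Coprime (p ^ 2) (2 ^ 12 * 3 ^ 3 * 5 ^ 2) := by
    apply Nat.Coprime.pow_left
    apply Nat.Coprime.mul_right
    · apply Nat.Coprime.mul_right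
      · exact Nat.Coprime.pow_right _ ((Nat.coprime_primes hp Nat.prime_two).2 h2)
      · exact Nat.Coprime.pow_right _ ((Nat.coprime_primes hp Nat.prime_three).2 h3)
    · exact Nat.Coprime.pow_right _ ((Nat.coprime_primes hp Nat.prime_five).2 h5)
  have h4 : p ^ 2 ∣ 91 := by
    have : 251596800 = (2 ^ 12 * 3 ^ 3 * 5 ^ 2) * 91 := by norm_num
    rw [this] at h
    exact hc.dvd_of_dvd_mul_left h
  have h6 := Nat.le_of_dvd (by norm_num) h4
  have h7 : p ≤ 9 := by nlinarith
  interval_cases p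
  all_goals first | omega | (norm_num at hp; done) | (norm_num at h4; done)

/-- The main bound on the permutation group. -/
theorem card_ker_dvd_P (hP : Model P) {Γ : Type*} [Group Γ] [Finite Γ] {σ : Γ →* P} (hσ : IsStemExtension σ) :
    Nat.card σ.ker ∣ 2 := by
  refine card_ker_dvd_of_sylow hσ 2 two_ne_zero ?_
  intro p _ Q
  by_cases hp2 : p = 2
  · subst hp2
    exact card_ker_dvd (p := 2) (e := Equiv.refl (Fin 416)) P P2.C check2 P2.codes P2.conj P2.base P2.ord chk2
      (rep_of_words hP mem2a (by decide +kernel)) (rep_of_words hP mem2b (by decide +kernel)) rfl hσ (m := 61425)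
      (by rw [hP.card]; decide +kernel) (by norm_num) Q
  by_cases hp3 : p = 3
  · subst hp3
    exact (card_ker_dvd (p := 3) (e := Equiv.refl (Fin 416)) P P3.C P3.check_ok P3.codes P3.conj P3.base P3.ord chk3
      (rep_of_words hP mem3a (by decide +kernel)) (rep_of_words hP mem3b (by decide +kernel)) rfl hσ (m := 9318400)
      (by rw [hP.card]; decide +kernel) (by norm_num) Q).trans (one_dvd _)
  by_cases hp5 : p = 5
  · subst hp5
    exact (card_ker_dvd (p := 5) (e := Equiv.refl (Fin 416)) P P5.C P5.check_ok P5.codes P5.conj P5.base P5.ord chk5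
      (rep_of_words hP mem5a (by decide +kernel)) (rep_of_words hP mem5b (by decide +kernel)) rfl hσ (m := 10063872)
      (by rw [hP.card]; decide +kernel) (by norm_num) Q).trans (one_dvd _)
  · refine (card_ker_sylow_of_not_sq_dvd hσ ?_ Q).trans (one_dvd _)
    rw [hP.card]
    exact not_sq_dvd Fact.out hp2 hp3 hp5

end Cfsg.Agent.Lib.G24Sch
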